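import Cfsg.Agent.H284.EP.TForm
import Cfsg.Agent.Cit.ElevenFact
import Cfsg.Agent.H981.EvM11
import Cfsg.Agent.H96.EPM.Count

/-!
# S3499-IV-L, row `soc(A) = M11` (helper96)

* `EPT.eq_of_complete` : if `N ≤ A` is normal with trivial centraliser in `A` and `Aut N = Inn N`, then `A = N`;
* `EPT.coatom` : if every automorphism of `A` is inner then every `A ∩ A^x`, `x ∉ A`, is maximal in `A`;
* `EPT.index_le_coatom` : `|Q : A| ≤ (number of maximal subgroups of A) ^ 2`;
* `m11_index` : `soc(A) = M11` implies `|Q : A| ≤ 2 ^ 24`.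
-/

set_option autoImplicit false
set_option linter.unusedSectionVars false

namespace Cfsg.Agent.H96.EPM

open MulAction Subgroup Cfsg Cfsg.Agent.H284

section

variable {Q : Type*} [Group Q]

/-- the automorphism of `N` induced by an automorphism of `Q` -/
theorem exists_restrict {N : Subgroup Q} {σ : MulAut Q} (h : ∀ n : Q, σ n ∈ N ↔ n ∈ N) :
    ∃ α : MulAut N, ∀ n : N, ((α n : N) : Q) = σ n := by
  refine ⟨{ toFun := fun n => ⟨σ n, (h n).2 n.2⟩
            invFun := fun n => ⟨σ.symm n, (h _).1 (by rw [MulEquiv.apply_symm_apply]; exact n.2)⟩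
            left_inv := fun n => Subtype.ext (σ.symm_apply_apply _)
            right_inv := fun n => Subtype.ext (σ.apply_symm_apply _)
            map_mul' := fun a b => Subtype.ext (map_mul σ _ _) }, fun n => rfl⟩

/-- **`soc(A) = N` complete: `A = N`.** -/
theorem eq_of_complete {A N : Subgroup Q} (hNA : N ≤ A) (hN : ∀ a ∈ A, ∀ n ∈ N, a * n * a⁻¹ ∈ N)
    (hC : ∀ a ∈ A, (∀ n ∈ N, a * n = n * a) → a = 1) (hin : ∀ α : MulAut N, ∃ g, α = MulAut.conj g) : A = N := by
  refine le_antisymm (fun a ha => ?_) hNA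
  obtain ⟨α, hα⟩ := exists_restrict (N := N) (σ := MulAut.conj a) (by
    intro n
    rw [MulAut.conj_apply]
    constructor
    · intro hn
      have h1 := hN _ (A.inv_mem ha) _ hn
      have h2 : a⁻¹ * (a * n * a⁻¹) * a⁻¹⁻¹ = n := by group
      rwa [h2] at h1
    · exact fun hn => hN a ha n hn)
  obtain ⟨g, rfl⟩ := hin α
  have h1 : (g : Q)⁻¹ * a = 1 := by
    refine hC _ (A.mul_mem (A.inv_mem (hNA g.2)) ha) (fun n hn => ?_)
    have h2 := hα ⟨n, hn⟩
    rw [MulAut.conj_apply, MulAut.conj_apply, Subgroup.coe_mul, Subgroup.coe_mul, Subgroup.coe_inv] at h2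
    have h3 : (g : Q) * n * (g : Q)⁻¹ = a * n * a⁻¹ := h2
    have h4 : (g : Q)⁻¹ * a * n = (g : Q)⁻¹ * (a * n * a⁻¹) * a := by group
    rw [h4, ← h3]
    group
  have h2 : a = g := by
    rw [inv_mul_eq_one] at h1
    exact h1.symm
  rw [h2]
  exact g.2

variable [Finite Q] {A : Subgroup Q} {Γ : Subgroup (MulAut Q)} (h : EPT A Γ)
  (hin : ∀ α : MulAut A, ∃ g, α = MulAut.conj g)

include h hin

/-- `Γ = A` -/
theorem exists_conj {σ : MulAut Q} (hσ : σ ∈ Γ) : ∃ a ∈ A, σ = MulAut.conj a := by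
  obtain ⟨α, hα⟩ := exists_restrict (N := A) (h.inv σ hσ)
  obtain ⟨g, rfl⟩ := hin α
  refine ⟨g, g.2, ?_⟩
  have h1 : (MulAut.conj (g : Q))⁻¹ * σ = 1 := by
    refine h.cent _ (mul_mem (inv_mem ((h.conj _).2 g.2)) hσ) (fun a ha => ?_)
    have h2 := hα ⟨a, ha⟩
    rw [MulAut.conj_apply, Subgroup.coe_mul, Subgroup.coe_mul, Subgroup.coe_inv] at h2
    rw [← map_inv, MulAut.mul_apply, MulAut.conj_apply]
    have h3 : (g : Q) * a * (g : Q)⁻¹ = σ a := h2
    rw [← h3]
    group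
  rw [inv_mul_eq_one] at h1
  exact h1.symm

/-- **the two-point stabilisers are maximal in `A`** -/
theorem coatom {x : Q} (hx : x ∉ A) : IsCoatom ((A ⊓ cj x A).subgroupOf A) := by
  have hle : ∀ L : Subgroup Q, L ≤ A → A ⊓ cj x A ≤ L → L = A ∨ L = A ⊓ cj x A := by
    intro L hLA hML
    have hL1 : L.map MulAut.conj ≤ Γ := by
      rintro _ ⟨l, hl, rfl⟩
      exact (h.conj l).2 (hLA hl)
    have hL2 : ∀ σ ∈ Γ, x⁻¹ * σ x ∈ A → σ ∈ L.map MulAut.conj := by
      intro σ hσ hσx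
      obtain ⟨a, ha, rfl⟩ := exists_conj h hin hσ
      exact ⟨a, hML ⟨ha, (h.conj_stab ha).1 hσx⟩, rfl⟩
    rcases h.two x hx (L.map MulAut.conj) hL1 hL2 with h1 | h1
    · left
      refine le_antisymm hLA (fun a ha => ?_)
      have h2 := (h.conj a).2 ha
      rw [← h1] at h2
      obtain ⟨l, hl, hla⟩ := h2
      -- `l⁻¹ a` is central in `Q`
      have h3 : MulAut.conj (l⁻¹ * a) = 1 := by rw [map_mul, map_inv, hla, inv_mul_cancel]
      have h4 : l⁻¹ * a ∈ A ⊓ cj x A := by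
        have h5 : l⁻¹ * a ∈ A := A.mul_mem (A.inv_mem (hLA hl)) ha
        refine ⟨h5, ?_⟩
        have h6 := congrArg (fun σ : MulAut Q => σ x) h3
        have h7 : l⁻¹ * a * x * (l⁻¹ * a)⁻¹ = x := h6
        refine mem_cj.2 ?_
        have h8 : x⁻¹ * (l⁻¹ * a) * x = l⁻¹ * a := by
          rw [mul_inv_eq_iff_eq_mul] at h7
          rw [mul_assoc, h7]
          group
        rw [h8]
        exact h5
      have h5 := L.mul_mem hl (hML h4)
      rwa [mul_inv_cancel_left] at h5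
    · right
      refine le_antisymm (fun l hl => ⟨hLA hl, ?_⟩) hML
      exact (h.conj_stab (hLA hl)).1 (h1 _ ⟨l, hl, rfl⟩)
  refine ⟨?_, ?_⟩
  · intro htop
    apply hx
    apply h.selfnorm
    have h1 : A ≤ cj x A := by
      intro a ha
      have h2 : (⟨a, ha⟩ : A) ∈ (A ⊓ cj x A).subgroupOf A := by rw [htop]; trivial
      exact (mem_subgroupOf.1 h2).2
    have h2 : A = cj x A := by
      refine Subgroup.eq_of_le_of_card_ge h1 ?_
      rw [Subgroup.card_map_of_injective (f := (MulAut.conj x).toMonoidHom) (MulAut.conj x).injective]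
    intro a ha
    have h3 : x * a * x⁻¹ ∈ cj x A := ⟨a, ha, rfl⟩
    rwa [← h2] at h3
  · intro L hL
    have h1 : A ⊓ cj x A ≤ L.map A.subtype := by
      intro y hy
      exact ⟨⟨y, hy.1⟩, hL.le (mem_subgroupOf.2 hy), rfl⟩
    rcases hle _ (map_subtype_le L) h1 with h2 | h2
    · rw [eq_top_iff]
      intro a _
      have h3 : (a : Q) ∈ L.map A.subtype := by rw [h2]; exact a.2
      obtain ⟨b, hb, hab⟩ := h3
      rwa [← Subtype.ext hab]
    · exfalso
      apply hL.not_ge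
      intro l hl
      rw [mem_subgroupOf, ← h2]
      exact ⟨l, hl, rfl⟩

/-- **`|Q : A| ≤ (number of maximal subgroups of A) ^ 2`** -/
theorem index_le_coatom : A.index ≤ {M : Subgroup A | IsCoatom M}.ncard ^ 2 := by
  refine h.index_le.trans (Nat.pow_le_pow_left ?_ 2)
  refine Set.ncard_le_ncard_of_injOn (fun M => M.subgroupOf A) ?_ ?_ (Set.toFinite _)
  · rintro M ⟨x, hx, rfl⟩
    exact coatom h hin hx
  · rintro M ⟨x, hx, rfl⟩ M' ⟨x', hx', rfl⟩ hMM
    have h1 := congrArg (Subgroup.map A.subtype) hMM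
    simp only [subgroupOf_map_subtype] at h1
    rwa [inf_eq_left.2 inf_le_left, inf_eq_left.2 inf_le_left] at h1

end

section

open Cfsg.Agent.SporadicB.AtlasPres.M11Rec

/-- `M11` has at most 4096 maximal subgroups -/
theorem card_coatom_M11 {L : Type*} [Group L] (hL : Spor.IsoM11 L) :
    {M : Subgroup L | IsCoatom M}.ncard ≤ 4096 := by
  obtain ⟨e⟩ := Cfsg.Agent.H981.EvM11.equiv_of hL
  have hfin : Finite (closure {pa, pb}) := Nat.finite_of_card_ne_zero (by rw [card_eq]; norm_num)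
  have : Finite L := Finite.of_equiv _ e.symm.toEquiv
  let act : MulAction L (Fin 11) :=
    MulAction.compHom (Fin 11) ((closure {pa, pb}).subtype.comp e.toMonoidHom)
  have hact : ∀ (g : L) (i : Fin 11), g • i = ((e g : closure {pa, pb}) : Equiv.Perm (Fin 11)) i := fun _ _ => rfl
  have hf : FaithfulSMul L (Fin 11) := by
    refine ⟨fun {a b} hab => ?_⟩
    apply e.injective
    apply Subtype.ext
    apply Equiv.ext
    intro i
    exact hab i
  have ht : IsPretransitive L (Fin 11) := by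
    refine (MulAction.isPretransitive_iff_orbit_eq_univ (0 : Fin 11)).2 ?_
    rw [Set.eq_univ_iff_forall]
    have h1 : ∀ i : Fin 11, ∃ w ∈ t0, ew w 0 = i := by decide +kernel
    intro i
    obtain ⟨w, -, hw⟩ := h1 i
    refine ⟨e.symm ⟨ew w, ew_mem w⟩, ?_⟩
    show e.symm ⟨ew w, ew_mem w⟩ • (0 : Fin 11) = i
    rw [hact, MulEquiv.apply_symm_apply]
    exact hw
  exact card_coatom (G := L) (Ω := Fin 11) (by rw [Nat.card_eq_fintype_card, Fintype.card_fin])
    (by rw [Nat.card_congr e.toEquiv, card_eq])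

/-- **Row `soc(A) = M11`.** -/
theorem m11_index {Q : Type*} [Group Q] [Finite Q] {A : Subgroup Q} {Γ : Subgroup (MulAut Q)} (h : EPT A Γ)
    {N : Subgroup Q} (hNA : N ≤ A) (hN : ∀ a ∈ A, ∀ n ∈ N, a * n * a⁻¹ ∈ N)
    (hC : ∀ a ∈ A, (∀ n ∈ N, a * n = n * a) → a = 1) (e : N ≃* Spor.M11) : A.index ≤ 2 ^ 24 := by
  have hin : ∀ α : MulAut N, ∃ g, α = MulAut.conj g := fun α => Cfsg.Agent.Cit.Eleven.aut_inner ⟨e⟩ α
  obtain rfl := eq_of_complete hNA hN hC hin
  have h1 := index_le_coatom h hin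
  have h2 := card_coatom_M11 (L := A) ⟨e⟩
  refine h1.trans ((Nat.pow_le_pow_left h2 2).trans ?_)
  norm_num

end

end Cfsg.Agent.H96.EPM
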